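import Cfsg.Agent.Helper61.Sr.Basic

/-!
helper41 for helper61 (S3572, board #11951): pieces (D1+D2) `F1`, `F1'` of `tools/helper61_sr/Skel.lean.txt`.
-/

set_option autoImplicit false
set_option linter.unusedSectionVars false
set_option linter.unusedVariables false

namespace Cfsg.Agent.Helper41.Sr

open Finset DihedralGroup Cfsg.Agent.Helper61.Sr Cfsg.Agent.Helper61.Dih

section Dihedral

variable {n : ℕ} [NeZero n] (S : SRing (DihedralGroup n))

/-- (D1) a nonempty `S`-set avoiding `1` contains a reflection -/
theorem F1 (hS : S.IsPrim) (T : Finset (DihedralGroup n)) (hT : S.IsSet T) (hne : T.Nonempty)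
    (h1 : (1 : DihedralGroup n) ∉ T) : ∃ j : ZMod n, sr j ∈ T := by
  by_contra hno
  push Not at hno
  have hcl := hS T hT hne h1
  have hle : Subgroup.closure (T : Set (DihedralGroup n)) ≤ torP n 0 := by
    rw [Subgroup.closure_le]
    intro g hg
    cases g with
    | r i => exact ⟨i, zero_smul _ _, rfl⟩
    | sr j => exact absurd hg (hno j)
  rw [hcl] at hle
  obtain ⟨u, _, hu⟩ := hle (Subgroup.mem_top (sr (0 : ZMod n)))
  cases hu

/-- the subgroup `{1, sr j}` -/
def D12_two (n : ℕ) (j : ZMod n) : Subgroup (DihedralGroup n) where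
  carrier := {g | g = 1 ∨ g = sr j}
  mul_mem' := by
    rintro _ _ (rfl | rfl) (rfl | rfl)
    · left; rw [mul_one]
    · right; rw [one_mul]
    · right; rw [mul_one]
    · left; exact sr_mul_self j
  one_mem' := Or.inl rfl
  inv_mem' := by
    rintro _ (rfl | rfl)
    · left; rw [_root_.inv_one]
    · right; rw [inv_sr]

/-- (D2) a nonempty `S`-set avoiding `1` contains a rotation -/
theorem F1' (hn : 2 ≤ n) (hS : S.IsPrim) (T : Finset (DihedralGroup n)) (hT : S.IsSet T)
    (hne : T.Nonempty) (h1 : (1 : DihedralGroup n) ∉ T) : ∃ i : ZMod n, r i ∈ T := by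
  by_contra hno
  push Not at hno
  have hfinv : S.Inv (ind T * ind T) := inv_mul S (inv_ind S hT) (inv_ind S hT)
  -- the product vanishes at the reflections
  have hsr : ∀ x : ZMod n, (ind T * ind T).coeff (sr x) = 0 := by
    intro x
    rw [coeff_ind_mul_ind]
    norm_cast
    rw [Finset.card_eq_zero, Finset.filter_eq_empty_iff]
    intro c hc
    cases c with
    | r i => exact absurd hc (hno i)
    | sr j =>
      rw [inv_sr, sr_mul_sr]
      exact hno _
  -- hence it vanishes off `1`
  have hU : S.IsSet ((univ.filter fun y => (ind T * ind T).coeff y ≠ 0).erase 1) :=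
    isSet_erase_one S (isSet_filter S hfinv (fun z => z ≠ 0))
  have hUe : ((univ.filter fun y => (ind T * ind T).coeff y ≠ 0).erase 1) = ∅ := by
    by_contra hne'
    obtain ⟨j, hj⟩ := F1 S hS _ hU (Finset.nonempty_iff_ne_empty.mpr hne') (Finset.notMem_erase _ _)
    rw [Finset.mem_erase, Finset.mem_filter] at hj
    exact hj.2.2 (hsr j)
  have hzero : ∀ y : DihedralGroup n, y ≠ 1 → (ind T * ind T).coeff y = 0 := by
    intro y hy
    by_contra h0
    have : y ∈ ((univ.filter fun y => (ind T * ind T).coeff y ≠ 0).erase 1) := by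
      rw [Finset.mem_erase, Finset.mem_filter]
      exact ⟨hy, Finset.mem_univ _, h0⟩
    rw [hUe] at this
    exact Finset.notMem_empty _ this
  -- so `T` is a single reflection
  have hone : ∀ j j' : ZMod n, sr j ∈ T → sr j' ∈ T → j' = j := by
    intro j j' hj hj'
    by_contra hjj
    have hy : sr j * sr j' ≠ (1 : DihedralGroup n) := by
      rw [sr_mul_sr, one_def]
      intro h
      injection h with h
      exact hjj (sub_eq_zero.mp h)
    have h0 := hzero _ hy
    rw [coeff_ind_mul_ind] at h0
    norm_cast at h0
    rw [Finset.card_eq_zero, Finset.filter_eq_empty_iff] at h0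
    apply h0 hj
    rw [inv_sr, ← mul_assoc, sr_mul_self, one_mul]
    exact hj'
  obtain ⟨t, ht⟩ := hne
  cases t with
  | r i => exact hno i ht
  | sr j =>
    have hcl := hS T hT ⟨sr j, ht⟩ h1
    have hle : Subgroup.closure (T : Set (DihedralGroup n)) ≤ D12_two n j := by
      rw [Subgroup.closure_le]
      intro g hg
      cases g with
      | r i => exact absurd hg (hno i)
      | sr j' =>
        right
        rw [hone j j' ht hg]
    rw [hcl] at hle
    rcases hle (Subgroup.mem_top (r (1 : ZMod n))) with h | h
    · rw [one_def] at h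
      injection h with h
      have : Fact (1 < n) := ⟨hn⟩
      exact one_ne_zero h
    · cases h

end Dihedral

end Cfsg.Agent.Helper41.Sr
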