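import Cfsg.Agent.Helper61.Sr.Basic

/-!
helper41 for helper61 (S3572, board #11951): pieces (F2) `coeff_sq_rot`, `coeff_sq_ref` of
`tools/helper61_sr/Skel.lean.txt`.
-/

set_option autoImplicit false
set_option linter.unusedSectionVars false
set_option linter.unusedVariables false

namespace Cfsg.Agent.Helper41.Sr

open Finset DihedralGroup Cfsg.Agent.Helper61.Sr Cfsg.Agent.Helper61.Dih

/-- a finset with a fixed-point-free involution has even cardinality -/
theorem F2_card_even {α : Type*} [DecidableEq α] (s : Finset α) (g : α → α) (hmem : ∀ a ∈ s, g a ∈ s)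
    (hne : ∀ a ∈ s, g a ≠ a) (hinv : ∀ a ∈ s, g (g a) = a) : ((s.card : ℕ) : ZMod 2) = 0 := by
  have h := Finset.sum_involution (s := s) (f := fun _ => (1 : ZMod 2)) (fun a _ => g a)
    (fun a _ => by decide) (fun a ha _ => hne a ha) (fun a ha => hmem a ha) (fun a ha => hinv a ha)
  rw [Finset.sum_const, nsmul_eq_mul, mul_one] at h
  exact h

/-- a finset with an involution has the parity of its fixed points -/
theorem F2_card_fixed {α : Type*} [DecidableEq α] (s : Finset α) (g : α → α) (hmem : ∀ a ∈ s, g a ∈ s)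
    (hinv : ∀ a ∈ s, g (g a) = a) : ((s.card : ℕ) : ZMod 2) = ((s.filter fun a => g a = a).card : ZMod 2) := by
  rw [← Finset.card_filter_add_card_filter_not (s := s) (fun a => g a = a), Nat.cast_add]
  have h0 : (((s.filter fun a => ¬ g a = a).card : ℕ) : ZMod 2) = 0 := by
    apply F2_card_even _ g
    · intro a ha
      rw [Finset.mem_filter] at ha ⊢
      refine ⟨hmem a ha.1, ?_⟩
      rw [hinv a ha.1]
      exact fun h => ha.2 h.symm
    · intro a ha
      exact (Finset.mem_filter.mp ha).2
    · intro a ha
      exact hinv a (Finset.mem_filter.mp ha).1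
  rw [h0, add_zero]

section Dihedral

variable {n : ℕ} [NeZero n] (S : SRing (DihedralGroup n))

/-- the involution used for `coeff_sq_rot` -/
def F2_g (x u : ZMod n) : DihedralGroup n → DihedralGroup n
  | r i => r (x - i)
  | sr j => sr (j + u)

/-- (F2-rot) the case `q = 2` -/
theorem coeff_sq_rot (hn2 : 2 ∣ n) (T : Finset (DihedralGroup n)) (hinv : ∀ d ∈ T, d⁻¹ ∈ T)
    (hB : ∀ j u : ZMod n, 2 • u = 0 → (sr j ∈ T ↔ sr (j + u) ∈ T)) (x : ZMod n) :
    ((((ind T : MonoidAlgebra ℤ (DihedralGroup n)) ^ 2).coeff (r x) : ℤ) : ZMod 2) =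
      (((rotPart T).filter (fun i => 2 • i = x)).card : ZMod 2) := by
  obtain ⟨m, hm⟩ := hn2
  have hn0 : n ≠ 0 := NeZero.ne n
  have hm0 : 0 < m := by
    rcases Nat.eq_zero_or_pos m with h | h
    · rw [h, mul_zero] at hm; exact absurd hm hn0
    · exact h
  set u : ZMod n := (m : ZMod n) with hu
  have hu2 : 2 • u = 0 := by
    rw [hu, nsmul_eq_mul]
    have : ((2 : ℕ) : ZMod n) * (m : ZMod n) = ((2 * m : ℕ) : ZMod n) := by push_cast; ring
    rw [this, ← hm, ZMod.natCast_self]
  have hu0 : u ≠ 0 := by
    rw [hu, Ne, ZMod.natCast_eq_zero_iff]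
    intro hdvd
    have := Nat.le_of_dvd hm0 hdvd
    omega
  rw [pow_two, coeff_ind_mul_ind, Int.cast_natCast]
  rw [F2_card_fixed _ (F2_g x u)]
  · -- the fixed points
    have : ((T.filter fun c => c⁻¹ * r x ∈ T).filter fun a => F2_g x u a = a) =
        ((rotPart T).filter (fun i => 2 • i = x)).image r := by
      ext c
      simp only [Finset.mem_filter, Finset.mem_image, mem_rotPart]
      constructor
      · rintro ⟨⟨hc, _⟩, hfix⟩
        cases c with
        | r i =>
          simp only [F2_g] at hfix
          injection hfix with hfix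
          refine ⟨i, ⟨hc, ?_⟩, rfl⟩
          rw [two_nsmul]
          exact (sub_eq_iff_eq_add.mp hfix).symm
        | sr j =>
          simp only [F2_g] at hfix
          injection hfix with hfix
          exact absurd (add_eq_left.mp hfix) hu0
      · rintro ⟨i, ⟨hi, h2⟩, rfl⟩
        rw [two_nsmul] at h2
        have hxi : x - i = i := by rw [← h2]; ring
        refine ⟨⟨hi, ?_⟩, ?_⟩
        · rw [inv_r, r_mul_r, neg_add_eq_sub, hxi]
          exact hi
        · simp only [F2_g]
          rw [hxi]
    rw [this, Finset.card_image_of_injective]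
    intro a b hab
    injection hab
  · -- membership
    intro c hc
    rw [Finset.mem_filter] at hc ⊢
    cases c with
    | r i =>
      simp only [F2_g]
      have h1 := hc.2
      rw [inv_r, r_mul_r, neg_add_eq_sub] at h1
      refine ⟨h1, ?_⟩
      rw [inv_r, r_mul_r]
      have : -(x - i) + x = i := by ring
      rw [this]
      exact hc.1
    | sr j =>
      simp only [F2_g]
      have h1 := hc.2
      rw [inv_sr, sr_mul_r] at h1
      refine ⟨(hB j u hu2).mp hc.1, ?_⟩
      rw [inv_sr, sr_mul_r]
      have : j + u + x = (j + x) + u := by ring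
      rw [this]
      exact (hB (j + x) u hu2).mp h1
  · -- involution
    intro c _
    cases c with
    | r i =>
      simp only [F2_g]
      congr 1
      ring
    | sr j =>
      simp only [F2_g]
      congr 1
      have : u + u = 0 := by rw [← two_nsmul]; exact hu2
      rw [add_assoc, this, add_zero]

/-- (F2-ref) -/
theorem coeff_sq_ref (T : Finset (DihedralGroup n)) (hinv : ∀ d ∈ T, d⁻¹ ∈ T) (x : ZMod n) :
    ((((ind T : MonoidAlgebra ℤ (DihedralGroup n)) ^ 2).coeff (sr x) : ℤ) : ZMod 2) = 0 := by
  rw [pow_two, coeff_ind_mul_ind, Int.cast_natCast]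
  apply F2_card_even _ (fun c => sr x * c)
  · intro c hc
    rw [Finset.mem_filter] at hc ⊢
    constructor
    · have := hinv _ hc.2
      rwa [mul_inv_rev, inv_inv, inv_sr] at this
    · rw [mul_inv_rev, inv_sr, mul_assoc, sr_mul_self, mul_one]
      exact hinv _ hc.1
  · intro c _ h
    have h1 : sr x = (1 : DihedralGroup n) := mul_eq_right.mp h
    rw [one_def] at h1
    cases h1
  · intro c _
    show sr x * (sr x * c) = c
    rw [← mul_assoc, sr_mul_self, one_mul]

end Dihedral

end Cfsg.Agent.Helper41.Sr
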